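import Groth.Agent.Torsor.Descent
import Groth.Agent.FpqcDescent.Props
import Groth.Agent.TorsorInfin.Basic
import Groth.Prelude.Def_Red
import Mathlib.RingTheory.FinitePresentation
import Mathlib.AlgebraicGeometry.Morphisms.FinitePresentation
import Mathlib.AlgebraicGeometry.Morphisms.UniversallyOpen

/-!
Fibre products of pointed torsors under finite group schemes surject onto a connected base.
-/

set_option autoImplicit false
set_option backward.isDefEq.respectTransparency false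
set_option linter.style.haveILetI false

universe u

open CategoryTheory CategoryTheory.Limits MonoidalCategory CartesianMonoidalCategory MonObj GrpObj AlgebraicGeometry
open Groth.Agent.Torsor

namespace Groth.Agent.TorsorFib

/-- finite over a field implies locally of finite presentation -/
lemma lfp_of_finite (k : Type u) [Field k] {Y : Scheme.{u}} (g : Y ⟶ Spec (CommRingCat.of k)) [IsFinite g] :
    LocallyOfFinitePresentation g := by
  haveI : IsAffine Y := isAffine_of_isAffineHom g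
  let b := Spec.preimage (Y.isoSpec.inv ≫ g)
  haveI : IsFinite (Spec.map b) := by rw [Spec.map_preimage]; infer_instance
  have hb : b.hom.Finite := (IsFinite.SpecMap_iff b).1 inferInstance
  have hfp : b.hom.FinitePresentation := RingHom.FinitePresentation.of_finiteType.1 hb.finiteType
  haveI : LocallyOfFinitePresentation (Spec.map b) :=
    (HasRingHomProperty.Spec_iff (P := @LocallyOfFinitePresentation)).2 hfp
  rw [show g = Y.isoSpec.hom ≫ Spec.map b by rw [Spec.map_preimage, Iso.hom_inv_id_assoc]]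
  infer_instance

section Adj

variable {k : Type u} [Field k] {X : Scheme.{u}} (q : X ⟶ Spec (CommRingCat.of k))

/-- the underlying scheme over the field -/
noncomputable abbrev low (U : Over X) : Over (Spec (CommRingCat.of k)) := (Over.map q).obj U

/-- points of a base change -/
noncomputable def up {U : Over X} {G : Over (Spec (CommRingCat.of k))} (a : low q U ⟶ G) : U ⟶ Red.bc q G :=
  (Over.mapPullbackAdj q).homEquiv U G a

variable {G G' : Over (Spec (CommRingCat.of k))}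

lemma up_bijective (U : Over X) : Function.Bijective (up q (U := U) (G := G)) :=
  ((Over.mapPullbackAdj q).homEquiv U G).bijective

lemma up_comp {U : Over X} (a : low q U ⟶ G) (f : G ⟶ G') :
    up q (a ≫ f) = up q a ≫ (Over.pullback q).map f :=
  (Over.mapPullbackAdj q).homEquiv_naturality_right a f

lemma comp_up {U U' : Over X} (v : U' ⟶ U) (a : low q U ⟶ G) :
    up q ((Over.map q).map v ≫ a) = v ≫ up q a :=
  (Over.mapPullbackAdj q).homEquiv_naturality_left v a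

lemma up_mul [GrpObj G] {U : Over X} (a b : low q U ⟶ G) : up q (a * b) = up q a * up q b := by
  simp only [up, Adjunction.homEquiv_unit, Functor.map_mul, comp_mul]

lemma up_one [GrpObj G] {U : Over X} : up q (1 : low q U ⟶ G) = 1 := by
  simp only [up, Adjunction.homEquiv_unit, Functor.map_one, comp_one]

lemma up_inv [GrpObj G] {U : Over X} (a : low q U ⟶ G) : up q a⁻¹ = (up q a)⁻¹ := by
  rw [eq_inv_iff_mul_eq_one, ← up_mul, inv_mul_cancel, up_one]

end Adj

variable {k : Type u} [Field k] {X : Scheme.{u}} [ConnectedSpace X] (q : X ⟶ Spec (CommRingCat.of k))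
  (x : Spec (CommRingCat.of k) ⟶ X)
  {G G₁ G₂ : Over (Spec (CommRingCat.of k))} [GrpObj G] [GrpObj G₁] [GrpObj G₂]
  [IsFinite G.hom] [IsFinite G₁.hom] [IsFinite G₂.hom] (φ₁ : G₁ ⟶ G) (φ₂ : G₂ ⟶ G) [IsMonHom φ₁] [IsMonHom φ₂]
  {T T₁ T₂ : Over X} (a : AlgGrp.Action (Red.bc q G) T) (a₁ : AlgGrp.Action (Red.bc q G₁) T₁)
  (a₂ : AlgGrp.Action (Red.bc q G₂) T₂)

lemma props {Gi : Over (Spec (CommRingCat.of k))} [GrpObj Gi] [IsFinite Gi.hom] {Ti : Over X}
    {ai : AlgGrp.Action (Red.bc q Gi) Ti} (h : NonAbH1.IsTorsorFor Scheme.fpqcPrecoverage ai) :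
    IsFinite Ti.hom ∧ Flat Ti.hom ∧ LocallyOfFinitePresentation Ti.hom := by
  haveI := lfp_of_finite k Gi.hom
  refine ⟨of_isTorsorFor h (@IsFinite : MorphismProperty Scheme.{u}) ?_,
    of_isTorsorFor h (@Flat : MorphismProperty Scheme.{u}) ?_,
    of_isTorsorFor h (@LocallyOfFinitePresentation : MorphismProperty Scheme.{u}) ?_⟩
  · exact inferInstanceAs (IsFinite (pullback.snd Gi.hom q))
  · exact inferInstanceAs (Flat (pullback.snd Gi.hom q))
  · exact inferInstanceAs (LocallyOfFinitePresentation (pullback.snd Gi.hom q))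

theorem surjective_pullback (hT : NonAbH1.IsTorsorFor Scheme.fpqcPrecoverage a)
    (hT₁ : NonAbH1.IsTorsorFor Scheme.fpqcPrecoverage a₁) (hT₂ : NonAbH1.IsTorsorFor Scheme.fpqcPrecoverage a₂)
    (t : Spec (CommRingCat.of k) ⟶ T.left) (t₁ : Spec (CommRingCat.of k) ⟶ T₁.left)
    (t₂ : Spec (CommRingCat.of k) ⟶ T₂.left) (ht : t ≫ T.hom = x) (ht₁ : t₁ ≫ T₁.hom = x) (ht₂ : t₂ ≫ T₂.hom = x)
    (f₁ : T₁ ⟶ T) (f₂ : T₂ ⟶ T)
    (hf₁ : AlgGrp.Action.IsEquivariant a₁ (a.restrict ((Over.pullback q).map φ₁)) f₁)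
    (hf₂ : AlgGrp.Action.IsEquivariant a₂ (a.restrict ((Over.pullback q).map φ₂)) f₂)
    (hft₁ : t₁ ≫ f₁.left = t) (hft₂ : t₂ ≫ f₂.left = t) : Surjective (pullback f₁ f₂).hom := by
  obtain ⟨i1, j1, l1⟩ := props q hT₁
  obtain ⟨i2, j2, l2⟩ := props q hT₂
  haveI := lfp_of_finite k G.hom
  let W := T₁ ⊗ T₂
  have hW : W.hom = pullback.fst T₁.hom T₂.hom ≫ T₁.hom := rfl
  haveI : IsFinite W.hom := by rw [hW]; infer_instance
  haveI : Flat W.hom := by rw [hW]; infer_instance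
  haveI : LocallyOfFinitePresentation W.hom := by rw [hW]; infer_instance
  -- the difference of the two points in `T`
  obtain ⟨c, hc, -⟩ := (isPseudoTorsor_iff a).1 hT.1 W (snd T₁ T₂ ≫ f₂) (fst T₁ T₂ ≫ f₁)
  obtain ⟨m, hm⟩ := (up_bijective q W).2 c
  let μ₀ : G₁ ⊗ G₂ ⟶ G := (fst G₁ G₂ ≫ φ₁) * (snd G₁ G₂ ≫ φ₂)⁻¹
  haveI := TorsorInfin.discrete_of_finite k G.hom
  let O : Set W.left := m.left.base ⁻¹' Set.range μ₀.left.base
  have hO : IsClopen O := (isClopen_discrete _).preimage m.left.continuous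
  have hA : IsClopen (W.hom.base '' O) :=
    ⟨W.hom.isClosedMap _ hO.1, W.hom.isOpenMap _ hO.2⟩
  -- the rational point lies in the image
  let xo : Over X := Over.mk x
  let s₁ : xo ⟶ T₁ := Over.homMk t₁ ht₁
  let s₂ : xo ⟶ T₂ := Over.homMk t₂ ht₂
  let w₀ : xo ⟶ W := lift s₁ s₂
  have hs : s₁ ≫ f₁ = s₂ ≫ f₂ := Over.OverMorphism.ext (hft₁.trans hft₂.symm)
  have hw₀ : (Over.map q).map w₀ ≫ m = 1 := by
    refine (up_bijective q xo).1 ?_
    rw [comp_up, hm, up_one]
    have h' := congrArg (w₀ ≫ ·) hc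
    simp only [comp_smul, w₀, lift_snd_assoc, lift_fst_assoc, hs] at h'
    exact ((isPseudoTorsor_iff a).1 hT.1 xo (s₂ ≫ f₂) (s₂ ≫ f₂)).unique h' (Groth.Agent.Torsor.one_smul a _)
  have hne : (W.hom.base '' O).Nonempty := by
    let p := IsLocalRing.closedPoint k
    have hμ : (1 : low q xo ⟶ G) = (lift (1 : low q xo ⟶ G₁) (1 : low q xo ⟶ G₂)) ≫ μ₀ := by
      rw [comp_mul, GrpObj.comp_inv, lift_fst_assoc, lift_snd_assoc, MonObj.one_comp, MonObj.one_comp, inv_one]
      exact (_root_.one_mul _).symm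
    refine ⟨_, w₀.left.base p, ⟨(lift (1 : low q xo ⟶ G₁) (1 : low q xo ⟶ G₂)).left.base p, ?_⟩, rfl⟩
    have := congrArg (fun h => h.left.base p) (hw₀.trans hμ)
    exact this.symm
  have huniv : W.hom.base '' O = Set.univ := hA.eq_univ hne
  refine ⟨fun p => ?_⟩
  obtain ⟨o, ⟨e, he⟩, rfl⟩ : p ∈ W.hom.base '' O := huniv ▸ trivial
  obtain ⟨z, hz, -⟩ := Scheme.Pullback.exists_preimage_pullback (f := m.left) (g := μ₀.left) o e he.symm
  let U : Over X := Over.mk (pullback.fst m.left μ₀.left ≫ W.hom)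
  let w : U ⟶ W := Over.homMk (pullback.fst m.left μ₀.left) rfl
  let g : low q U ⟶ G₁ ⊗ G₂ := Over.homMk (pullback.snd m.left μ₀.left) (by
    rw [← Over.w μ₀, ← Category.assoc, ← pullback.condition, Category.assoc, Over.w m]
    exact (Category.assoc _ _ _).symm)
  have hg : (Over.map q).map w ≫ m = (g ≫ fst G₁ G₂ ≫ φ₁) * (g ≫ snd G₁ G₂ ≫ φ₂)⁻¹ := by
    rw [← comp_inv, ← comp_mul]
    exact Over.OverMorphism.ext pullback.condition
  let h₁ := up q (g ≫ fst G₁ G₂)
  let h₂ := up q (g ≫ snd G₁ G₂)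
  let ψ₁ := (Over.pullback q).map φ₁
  let ψ₂ := (Over.pullback q).map φ₂
  have hwc : w ≫ c = (h₁ ≫ ψ₁) * (h₂ ≫ ψ₂)⁻¹ := by
    rw [← hm, ← comp_up, hg, up_mul, up_inv]
    simp only [h₁, h₂, ψ₁, ψ₂, ← up_comp, Category.assoc]
  let p₁ := w ≫ fst T₁ T₂
  let p₂ := w ≫ snd T₁ T₂
  have hrel : smul a (w ≫ c) (p₂ ≫ f₂) = p₁ ≫ f₁ := by
    have := congrArg (w ≫ ·) hc
    simpa only [comp_smul, p₁, p₂, Category.assoc] using this
  have equiv₁ : ∀ (h : U ⟶ Red.bc q G₁) (s : U ⟶ T₁), smul a₁ h s ≫ f₁ = smul a (h ≫ ψ₁) (s ≫ f₁) := fun h s => by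
    rw [smul_equivariant a₁ hf₁]
    exact AlgGrp.Action.lift_restrict_act ψ₁ a h _
  have equiv₂ : ∀ (h : U ⟶ Red.bc q G₂) (s : U ⟶ T₂), smul a₂ h s ≫ f₂ = smul a (h ≫ ψ₂) (s ≫ f₂) := fun h s => by
    rw [smul_equivariant a₂ hf₂]
    exact AlgGrp.Action.lift_restrict_act ψ₂ a h _
  have hfin : smul a₁ h₁⁻¹ p₁ ≫ f₁ = smul a₂ h₂⁻¹ p₂ ≫ f₂ := by
    rw [equiv₁, equiv₂, GrpObj.inv_comp, GrpObj.inv_comp, ← hrel, ← Groth.Agent.Torsor.mul_smul, hwc, inv_mul_cancel_left]
  let l := pullback.lift (smul a₁ h₁⁻¹ p₁) (smul a₂ h₂⁻¹ p₂) hfin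
  refine ⟨l.left.base z, ?_⟩
  change (l.left ≫ (pullback f₁ f₂).hom).base z = _
  rw [Over.w l, ← hz]
  rfl

end Groth.Agent.TorsorFib
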