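import Groth.Agent.FlatCx.ReducedRank
import Groth.Agent.TorsorFib.Basic
import Mathlib.AlgebraicGeometry.Morphisms.FlatRank

/-!
Finite morphisms to a reduced scheme with fibres of constant degree are flat; pseudo-torsors under a finite group
over a field which are finite and surjective over a reduced base are flat.
-/

set_option autoImplicit false
set_option backward.isDefEq.respectTransparency false
set_option linter.style.haveILetI false

universe u

open CategoryTheory CategoryTheory.Limits MonoidalCategory CartesianMonoidalCategory MonObj GrpObj AlgebraicGeometry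
open scoped TensorProduct

namespace Groth.Agent.TorsorFib

lemma flat_to_field {X : Scheme.{u}} {K : Type u} [Field K] (f : X ⟶ Spec (CommRingCat.of K)) : Flat f := by
  refine IsZariskiLocalAtSource.of_openCover X.affineCover fun i => ?_
  obtain ⟨φ, hφ⟩ := Spec.map_surjective ((X.affineCover.X i).isoSpec.inv ≫ X.affineCover.f i ≫ f)
  rw [show X.affineCover.f i ≫ f = (X.affineCover.X i).isoSpec.hom ≫ Spec.map φ by rw [hφ]; simp,
    MorphismProperty.cancel_left_of_respectsIso (P := @Flat), HasRingHomProperty.Spec_iff (P := @Flat)]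
  algebraize [φ.hom]
  show Module.Flat _ _
  infer_instance

/-- all fibres over field points have degree `n` -/
def HasDegree {Y X : Scheme.{u}} (f : Y ⟶ X) (n : ℕ) : Prop :=
  ∀ (K : Type u) [Field K] (g : Spec (CommRingCat.of K) ⟶ X) (z : Spec (CommRingCat.of K)),
    (pullback.snd f g).finrank z = n

lemma flat_of_hasDegree_Spec {A B : CommRingCat.{u}} [_root_.IsReduced A] (φ : A ⟶ B) (hfin : φ.hom.Finite) (n : ℕ)
    (h : HasDegree (Spec.map φ) n) : φ.hom.Flat := by
  algebraize [φ.hom]
  show Module.Flat A B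
  refine FlatCx.flat_of_fdim_isLocallyConstant B (IsLocallyConstant.of_constant _ fun p p' => ?_)
  suffices key : ∀ p : PrimeSpectrum A, FlatCx.fdim (A := A) B p = n from (key p).trans (key p').symm
  intro p
  let κ := p.asIdeal.ResidueField
  let g : Spec (CommRingCat.of κ) ⟶ Spec A := Spec.map (CommRingCat.ofHom (algebraMap A κ))
  haveI : IsFinite (Spec.map φ) := (IsFinite.SpecMap_iff φ).2 hfin
  have hk := h κ g (IsLocalRing.closedPoint κ)
  have e : (pullbackSymmetry _ _).hom ≫ pullback.fst g (Spec.map φ) = pullback.snd (Spec.map φ) g :=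
    pullbackSymmetry_hom_comp_fst _ _
  haveI := flat_to_field (pullback.fst g (Spec.map φ))
  rw [← e, Scheme.Hom.finrank_comp_left_of_isIso] at hk
  have e2 : (pullbackSpecIso A κ B).hom ≫ Spec.map (CommRingCat.ofHom (algebraMap κ (κ ⊗[A] B))) =
      pullback.fst g (Spec.map φ) := pullbackSpecIso_hom_fst' A κ B
  haveI := flat_to_field (Spec.map (CommRingCat.ofHom (algebraMap κ (κ ⊗[A] B))))
  haveI : Module.Finite κ (κ ⊗[A] B) := inferInstance
  haveI : IsFinite (Spec.map (CommRingCat.ofHom (algebraMap κ (κ ⊗[A] B)))) :=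
    (IsFinite.SpecMap_iff _).2 (RingHom.finite_algebraMap.2 inferInstance)
  rw [← e2, Scheme.Hom.finrank_comp_left_of_isIso, Scheme.Hom.finrank_SpecMap_algebraMap,
    Module.rankAtStalk_eq_finrank_of_free] at hk
  exact hk

theorem flat_of_hasDegree {Y X : Scheme.{u}} [AlgebraicGeometry.IsReduced X] (f : Y ⟶ X) [IsFinite f] (n : ℕ)
    (h : HasDegree f n) : Flat f := by
  refine IsZariskiLocalAtTarget.of_openCover X.affineCover fun i => ?_
  show Flat (pullback.snd f (X.affineCover.f i))
  let j := X.affineCover.f i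
  let f' := pullback.snd f j
  haveI : AlgebraicGeometry.IsReduced (X.affineCover.X i) := isReduced_of_isOpenImmersion j
  haveI : IsAffine (pullback f j) := isAffine_of_isAffineHom f'
  let U := X.affineCover.X i
  let φ := Spec.preimage ((pullback f j).isoSpec.inv ≫ f' ≫ U.isoSpec.hom)
  have hφ : f' = (pullback f j).isoSpec.hom ≫ Spec.map φ ≫ U.isoSpec.inv := by
    simp only [φ, Spec.map_preimage, Category.assoc, Iso.hom_inv_id_assoc, Iso.hom_inv_id, Category.comp_id]
  haveI : _root_.IsReduced Γ(U, ⊤) := inferInstance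
  haveI hfin : IsFinite (Spec.map φ) := by
    simp only [φ, Spec.map_preimage]; infer_instance
  have hd : HasDegree (Spec.map φ) n := by
    intro K _ g z
    let m := pullback.map f' (g ≫ U.isoSpec.inv) (Spec.map φ) g (pullback f j).isoSpec.hom (𝟙 _) U.isoSpec.hom
        (by simp [φ]) (by simp)
    haveI : IsIso m := pullback.map_isIso ..
    have e : m ≫ pullback.snd (Spec.map φ) g = pullback.snd f' (g ≫ U.isoSpec.inv) := by
      simp [m, pullback.map]
    haveI := flat_to_field (pullback.snd (Spec.map φ) g)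
    haveI := flat_to_field (pullback.snd f' (g ≫ U.isoSpec.inv))
    haveI := flat_to_field (pullback.snd f ((g ≫ U.isoSpec.inv) ≫ j))
    rw [← Scheme.Hom.finrank_comp_left_of_isIso m (pullback.snd (Spec.map φ) g), e,
      ← pullbackLeftPullbackSndIso_hom_snd f j (g ≫ U.isoSpec.inv), Scheme.Hom.finrank_comp_left_of_isIso]
    exact h K _ z
  have := flat_of_hasDegree_Spec φ ((IsFinite.SpecMap_iff φ).1 hfin) n hd
  haveI : Flat (Spec.map φ) := (Flat.SpecMap_iff).2 this
  show Flat f'
  rw [hφ]
  infer_instance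

lemma hasDegree_of_pseudoTorsor {k : Type u} [Field k] {X : Scheme.{u}} (q : X ⟶ Spec (CommRingCat.of k))
    {P : Over (Spec (CommRingCat.of k))} [GrpObj P] [IsFinite P.hom] {Y : Over X} [IsFinite Y.hom]
    [Surjective Y.hom] {c : AlgGrp.Action (Red.bc q P) Y} (hc : NonAbH1.IsPseudoTorsorSch c) :
    HasDegree Y.hom (P.hom.finrank (IsLocalRing.closedPoint k)) := by
  intro K _ g z
  obtain ⟨y, hy⟩ := Scheme.Hom.surjective (pullback.snd Y.hom g) z
  let L := (pullback Y.hom g).residueField y
  let l : Spec (CommRingCat.of L) ⟶ pullback Y.hom g := (pullback Y.hom g).fromSpecResidueField y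
  let r := l ≫ pullback.snd Y.hom g
  let U : Over X := Over.mk (r ≫ g)
  let s : U ⟶ Y := Over.homMk (l ≫ pullback.fst Y.hom g) (by simp [U, r, pullback.condition])
  let B : Over X := Red.bc q P
  let τ : B ⊗ U ⟶ Y ⊗ U := lift ((B ◁ s) ≫ c.act) (snd B U)
  haveI : IsIso τ := (Groth.Agent.Torsor.isIso_triv_iff c s).2 fun V v w =>
    (Groth.Agent.Torsor.isPseudoTorsor_iff c).1 hc V _ _
  haveI : IsIso τ.left := Functor.map_isIso (Over.forget X) τ
  have e : τ.left ≫ pullback.snd Y.hom (r ≫ g) = pullback.snd (pullback.snd P.hom q) (r ≫ g) :=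
    congrArg CommaMorphism.left (lift_snd ((B ◁ s) ≫ c.act) (snd B U))
  haveI := flat_to_field (pullback.snd Y.hom g)
  haveI := flat_to_field P.hom
  haveI := flat_to_field (pullback.snd Y.hom (r ≫ g))
  haveI := flat_to_field (pullback.snd (pullback.snd Y.hom g) r)
  let w : Spec (CommRingCat.of L) := IsLocalRing.closedPoint L
  have h1 : (pullback.snd Y.hom (r ≫ g)).finrank w = (pullback.snd Y.hom g).finrank z := by
    have := Scheme.Hom.finrank_pullback_snd (pullback.snd Y.hom g) r w
    rw [← pullbackLeftPullbackSndIso_hom_snd Y.hom g r, Scheme.Hom.finrank_comp_left_of_isIso] at this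
    exact this.trans (congrArg _ (Subsingleton.elim _ _))
  have h2 : (pullback.snd (pullback.snd P.hom q) (r ≫ g)).finrank w = P.hom.finrank (IsLocalRing.closedPoint k) := by
    rw [Scheme.Hom.finrank_pullback_snd, Scheme.Hom.finrank_pullback_snd]
    exact congrArg _ (Subsingleton.elim _ _)
  rw [← h1, ← h2, ← e, Scheme.Hom.finrank_comp_left_of_isIso]

end Groth.Agent.TorsorFib
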